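import Groth.Agent.Dual3BCR.Local
import Groth.Agent.Dual3XI.Main

/-!
**Flat base change for the right adjoint of `Rf_*`.**
-/

set_option autoImplicit false
set_option backward.isDefEq.respectTransparency false
set_option backward.isDefEq.respectTransparency.types false
set_option linter.style.haveILetI false
set_option linter.unusedSectionVars false

universe u

open CategoryTheory Limits Pretriangulated AlgebraicGeometry ZeroObject

attribute [local instance] HasDerivedCategory.standard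

namespace Groth.Agent.Dual3BCR

open Groth.Agent.DQCoh (RD)
open Groth.Agent.PerfGen Groth.Agent.DCohShriek

variable {X Y X' Y' : Scheme.{u}} {f : X ⟶ Y} {g : Y' ⟶ Y} {f' : X' ⟶ Y'} {g' : X' ⟶ X}
variable [DCoh.HasRpush f] [DCoh.HasRpush f'] [DCoh.HasRpush g] [DCoh.HasRpush g']
variable {hf : DCoh.RpushPreservesQCoh f} {hf' : DCoh.RpushPreservesQCoh f'}
variable {hg : DCoh.RpushPreservesQCoh g} {hg' : DCoh.RpushPreservesQCoh g'}
variable [DCoh.HasLpull g] [DCoh.HasLpull g'] {hLg : Dual3.LpullPreservesQCoh g}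
  {hLg' : Dual3.LpullPreservesQCoh g'}
  {a : DCoh.DQCoh Y ⥤ DCoh.DQCoh X} {a' : DCoh.DQCoh Y' ⥤ DCoh.DQCoh X'}

/-- invertibility of the base change map does not depend on the adjunctions -/
lemma isIso_bcPush_of_other
    (e : DCoh.RpushQ g' hg' ⋙ DCoh.RpushQ f hf ≅ DCoh.RpushQ f' hf' ⋙ DCoh.RpushQ g hg)
    (adjg adjg₀ : Dual3.LpullQ g hLg ⊣ DCoh.RpushQ g hg)
    (adjg' adjg₀' : Dual3.LpullQ g' hLg' ⊣ DCoh.RpushQ g' hg') (K : DCoh.DQCoh X)
    (h : IsIso (Dual3.bcPush e adjg₀ adjg₀' K)) : IsIso (Dual3.bcPush e adjg adjg' K) := by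
  have hs : ∀ {A : DCoh.DQCoh Y} {B : DCoh.DQCoh Y'} (φ : A ⟶ (DCoh.RpushQ g hg).obj B),
      (adjg.homEquiv A B).symm φ = (adjg.leftAdjointUniq adjg₀).hom.app A ≫ (adjg₀.homEquiv A B).symm φ := by
    intro A B φ
    apply (adjg.homEquiv A B).injective
    rw [Equiv.apply_symm_apply, Adjunction.homEquiv_naturality_right,
      Adjunction.homEquiv_leftAdjointUniq_hom_app]
    exact ((Adjunction.homEquiv_unit adjg₀ _ _ _).symm.trans (Equiv.apply_symm_apply _ _)).symm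
  have hu : adjg'.unit.app K =
      adjg₀'.unit.app K ≫ (DCoh.RpushQ g' hg').map ((adjg₀'.leftAdjointUniq adjg').hom.app K) :=
    (Adjunction.homEquiv_leftAdjointUniq_hom_app adjg₀' adjg' K).symm.trans (Adjunction.homEquiv_unit adjg₀' _ _ _)
  have he := e.hom.naturality ((adjg₀'.leftAdjointUniq adjg').hom.app K)
  simp only [Functor.comp_map] at he
  have hk : Dual3.bcPush e adjg adjg' K =
      (adjg.leftAdjointUniq adjg₀).hom.app _ ≫ Dual3.bcPush e adjg₀ adjg₀' K ≫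
        (DCoh.RpushQ f' hf').map ((adjg₀'.leftAdjointUniq adjg').hom.app K) := by
    rw [Dual3.bcPush, hs, Dual3.bcPush, ← Adjunction.homEquiv_naturality_right_symm, Category.assoc, hu,
      Functor.map_comp, Category.assoc, he]
  rw [hk]
  infer_instance

/-- `Rf_*` of perfect objects after an affine flat base change -/
theorem fin'_bc [QuasiCompact f] [QuasiSeparated f] [CompactSpace X] [QuasiSeparatedSpace X]
    [CompactSpace X'] [QuasiSeparatedSpace X'] [IsAffineHom g] [Flat g] (hsq : IsPullback g' f' f g)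
    {o : Option ℤ} (hfin : Fin' o f) : Fin' o f' := by
  haveI : IsAffineHom g' := MorphismProperty.of_isPullback (P := @IsAffineHom) hsq.flip ‹_›
  haveI : QuasiCompact f' := MorphismProperty.of_isPullback (P := @QuasiCompact) hsq ‹_›
  haveI : QuasiSeparated f' := MorphismProperty.of_isPullback (P := @QuasiSeparated) hsq ‹_›
  obtain ⟨G, -, hgen, hGp⟩ := exists_gen_qcohD X
  haveI := DerPush.hasRpush_sch g'
  have hgen' := PerfPush.gen_lpull g' hgen hGp
  have h₀ : OKo o ((DCoh.Rpush f').obj ((DCoh.Lpull g').obj G)) := by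
    obtain ⟨b⟩ := FMTool.nonempty_bcNat (f := f) (g := g) (f' := f') (g' := g') hsq (Or.inl ‹_›)
    have e := b.app ⟨G, isQCohD_of_isPerfect hGp⟩
    rcases hfin G hGp with h | ⟨ho, h⟩
    · exact Or.inl (DQCoh.perfect_of_iso e (DerPerf.isPerfect_Lpull g _ h))
    · exact Or.inr ⟨ho, fun m => DQCoh.pc_of_iso e (DerPerf.isPseudoCoherent_Lpull g m _ (h m))⟩
  haveI : (DCoh.Rpush f').Additive := additive_rpush f'
  have hobj₂ : ∀ T : Triangle (DCoh.D X'), T ∈ distTriang (DCoh.D X') →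
      OKo o ((DCoh.Rpush f').obj T.obj₁) → OKo o ((DCoh.Rpush f').obj T.obj₃) →
      OKo o ((DCoh.Rpush f').obj T.obj₂) := by
    intro T hT h₁ h₃
    obtain ⟨c, hc⟩ := Dual3Nu.triP_rpush f' _ hT
    rcases h₁ with h₁ | ⟨ho, h₁⟩
    · rcases h₃ with h₃ | ⟨ho, h₃⟩
      · exact Or.inl (DQCoh.perfect_obj₂ _ hc h₁ h₃)
      · exact Or.inr ⟨ho, fun m => DQCoh.pc_obj₂ _ hc m (DQCoh.pc_of_perfect h₁ m) (h₃ m)⟩
    · refine Or.inr ⟨ho, fun m => DQCoh.pc_obj₂ _ hc m (h₁ m) ?_⟩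
      rcases h₃ with h₃ | ⟨-, h₃⟩
      · exact DQCoh.pc_of_perfect h₃ m
      · exact h₃ m
  let Q : ObjectProperty (DCoh.D X') := fun P => OKo o ((DCoh.Rpush f').obj P)
  have hiso : ∀ {A B : DCoh.D X'}, (A ≅ B) → Q A → Q B := fun i h =>
    okO_of_retract ((Retract.ofIso i.symm).map (DCoh.Rpush f')) h
  haveI : Q.IsClosedUnderIsomorphisms := ⟨hiso⟩
  have hzero : ∀ {Z : DCoh.D X'}, IsZero Z → Q Z := fun {Z} hZ =>
    okO_of_retract (⟨0, 0, ((DCoh.Rpush f').map_isZero hZ).eq_of_src _ _⟩ :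
      Retract ((DCoh.Rpush f').obj Z) ((DCoh.Rpush f').obj ((DCoh.Lpull g').obj G))) h₀
  haveI : Q.ContainsZero := ⟨⟨0, isZero_zero _, hzero (isZero_zero _)⟩⟩
  haveI : Q.IsStableUnderShift ℤ := ⟨fun n => ⟨fun E (h : OKo o _) => by
    show OKo o _
    refine okO_of_retract (Retract.ofIso ((DCohShriek.rpushShiftIso f' n).app E)) (L := ((DCoh.Rpush f').obj E)⟦n⟧) ?_
    exact h.imp (fun h => DQCoh.perfect_shift h n) fun ⟨ho, h⟩ =>
      ⟨ho, fun m => by have := DQCoh.pc_shift (h (m + n)) n; rwa [add_sub_cancel_right] at this⟩⟩⟩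
  haveI : Q.IsTriangulatedClosed₂ := ObjectProperty.IsTriangulatedClosed₂.mk' hobj₂
  haveI : Q.IsTriangulated := {}
  haveI : Q.IsStableUnderRetracts := ⟨fun r hB => okO_of_retract (r.map (DCoh.Rpush f')) hB⟩
  intro P hP
  exact ((ObjectProperty.triangEnvelope_le_iff (Q := Q) (P := PerfGen.only ((DCoh.Lpull g').obj G))).2
    (fun E hE => by cases hE; exact h₀)) _
    (PerfGen.envelope_of_gen (PerfGen.localizing_qcohD X')
      (PerfGen.cpt_of_perfect (DerPerf.isPerfect_Lpull g' G hGp)) hgen' (PerfGen.cpt_of_perfect hP))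

/-- perfectness of direct images is inherited by flat base change -/
theorem fin'_none_bc [QuasiCompact f] [QuasiSeparated f] [CompactSpace X] [QuasiSeparatedSpace X]
    [CompactSpace X'] [QuasiSeparatedSpace X'] [Flat g] (hsq : IsPullback g' f' f g)
    (hfin : Fin' none f) : Fin' none f' := by
  haveI : QuasiCompact f' := MorphismProperty.of_isPullback (P := @QuasiCompact) hsq ‹_›
  haveI : QuasiSeparated f' := MorphismProperty.of_isPullback (P := @QuasiSeparated) hsq ‹_›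
  intro P hP
  refine Or.inl ?_
  rw [DQCoh.perfect_iff_near]
  intro y
  obtain ⟨V, hV, hyV, -⟩ := exists_isAffineOpen_mem_and_subset (X := Y) (x := g.base y) (U := ⊤) trivial
  obtain ⟨V', hV', hyV', hle⟩ := exists_isAffineOpen_mem_and_subset (X := Y') (x := y) (U := g ⁻¹ᵁ V) hyV
  have he : V' ≤ g ⁻¹ᵁ V := hle
  haveI : IsAffine (V : Scheme.{u}) := hV
  haveI : IsAffine (V' : Scheme.{u}) := hV'
  have hUc : IsCompact ((f ⁻¹ᵁ V : X.Opens) : Set X) := f.isCompact_preimage hV.isCompact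
  haveI : CompactSpace (f ⁻¹ᵁ V) := isCompact_iff_compactSpace.1 hUc
  haveI : QuasiSeparatedSpace (f ⁻¹ᵁ V) := quasiSeparatedSpace_of_quasiSeparated (f ⁻¹ᵁ V).ι
  haveI : CompactSpace (f' ⁻¹ᵁ V') := isCompact_iff_compactSpace.1 (f'.isCompact_preimage hV'.isCompact)
  haveI : QuasiSeparatedSpace (f' ⁻¹ᵁ V') := quasiSeparatedSpace_of_quasiSeparated (f' ⁻¹ᵁ V').ι
  haveI : QuasiCompact (f ∣_ V) := quasiCompact_of_compactSpace _
  haveI := DerPush.hasRpush_sch (f ∣_ V)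
  haveI := DerPush.hasRpush_sch (f' ∣_ V')
  haveI := DerPush.hasRpush_sch (g.resLE V V' he)
  haveI := DerPush.hasRpush_sch (g'.resLE (f ⁻¹ᵁ V) (f' ⁻¹ᵁ V') (le_square hsq he))
  haveI := KFlat.hasLpull (g.resLE V V' he)
  haveI := KFlat.hasLpull (g'.resLE (f ⁻¹ᵁ V) (f' ⁻¹ᵁ V') (le_square hsq he))
  have hV₀ := fin'_bc (isPullback_resLE hsq he) (fin'_restrict f hfin V hUc)
  rcases hV₀ _ (isPerfect_RD (f' ⁻¹ᵁ V').ι hP) with h | ⟨ho, -⟩
  · obtain ⟨O, o, ho, w, hw, hPO⟩ := (DQCoh.perfect_iff_near _).1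
      (DQCoh.perfect_of_iso ((DQPush.rpushRestrIso f' V').app P).symm h) ⟨y, hyV'⟩
    haveI := ho
    exact ⟨O, o ≫ V'.ι, inferInstance, w, by rw [Scheme.Hom.comp_apply, hw]; rfl, DQCoh.perfOn_push o V'.ι hPO⟩
  · exact absurd ho (by simp)

/-- **flat base change for right adjoints of `Rf_*`** -/
theorem isIso_bcMap [CompactSpace Y] [QuasiSeparatedSpace Y] [CompactSpace Y'] [QuasiSeparatedSpace Y']
    [QuasiCompact f] [QuasiSeparated f] [Flat g] (hsq : IsPullback g' f' f g)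
    (e : DCoh.RpushQ g' hg' ⋙ DCoh.RpushQ f hf ≅ DCoh.RpushQ f' hf' ⋙ DCoh.RpushQ g hg)
    (adjg : Dual3.LpullQ g hLg ⊣ DCoh.RpushQ g hg) (adjg' : Dual3.LpullQ g' hLg' ⊣ DCoh.RpushQ g' hg')
    (adj : DCoh.RpushQ f hf ⊣ a) (adj' : DCoh.RpushQ f' hf' ⊣ a')
    [hP : ∀ K : DCoh.DQCoh X, IsIso (Dual3.bcPush e adjg adjg' K)]
    {o : Option ℤ} (hfin : Fin' o f) (hfin' : Fin' o f') (K : DCoh.DQCoh Y) (hb : Bdd o K.obj)
    (hξ : IsIso (Dual3.xi adj adj' e ((Dual3.LpullQ g hLg).obj K))) :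
    IsIso (Dual3.bcMap adj adj' e adjg adjg' K hξ) := by
  let β := Dual3.bcMap adj adj' e adjg adjg' K hξ
  haveI : IsIso β.hom := by
    obtain ⟨C, p, q, hC⟩ := distinguished_cocone_triangle β.hom
    refine (Triangle.isZero₃_iff_isIso₁ _ hC).1 (isZero_of_suppD_empty fun i x hx => ?_)
    obtain ⟨V, hV, hxV⟩ := QC.exists_affine_mem (g.base (f'.base x))
    obtain ⟨V', hV', hxV', hle⟩ :=
      exists_isAffineOpen_mem_and_subset (X := Y') (x := f'.base x) (U := g ⁻¹ᵁ V) hxV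
    have hz : IsZero ((RD (f' ⁻¹ᵁ V').ι).obj C) :=
      (Triangle.isZero₃_iff_isIso₁ _ ((RD (f' ⁻¹ᵁ V').ι).map_distinguished _ hC)).2
        (isIso_RD_bcMap hsq e adjg adjg' adj adj' hfin hfin' K hb hξ V hV V' hV' hle)
    exact (isZero_RD_iff _ C).1 hz i hx ⟨⟨x, hxV'⟩, rfl⟩
  haveI : IsIso ((ObjectProperty.ι _).map β) := ‹IsIso β.hom›
  exact isIso_of_reflects_iso _ (ObjectProperty.ι _)

/-- flat base change: the data -/
theorem exists_bcData [CompactSpace X] [QuasiSeparatedSpace X] [QuasiSeparatedSpace Y] [Flat g]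
    (hsq : IsPullback g' f' f g)
    (adjg : Dual3.LpullQ g hLg ⊣ DCoh.RpushQ g hg) (adjg' : Dual3.LpullQ g' hLg' ⊣ DCoh.RpushQ g' hg') :
    ∃ e : DCoh.RpushQ g' hg' ⋙ DCoh.RpushQ f hf ≅ DCoh.RpushQ f' hf' ⋙ DCoh.RpushQ g hg,
      ∀ K, IsIso (Dual3.bcPush e adjg adjg' K) := by
  obtain ⟨adj₀⟩ := DerPush.nonempty_lpull_adj_rpush g
  obtain ⟨adj₀'⟩ := DerPush.nonempty_lpull_adj_rpush g'
  obtain ⟨e₀, he⟩ := Dual3XI.exists_baseChange hsq (Or.inr ‹_›) adj₀ adj₀'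
  exact ⟨Dual3XI.isoQ hf hf' hg hg' e₀, fun K => isIso_bcPush_of_other _ _ _ _ _ K
    (Dual3XI.isIso_bcPush e₀ adj₀ adj₀' he K)⟩

end Groth.Agent.Dual3BCR
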