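import Groth.Agent.Dual3Nu.Setup
import Groth.Agent.PerfGen.Open
import Groth.Agent.DQPush.Basic
import Groth.Agent.DCohShriek.BaseChange

/-!
Extending natural comparisons from restrictions to all objects of an open.
-/

set_option autoImplicit false
set_option backward.isDefEq.respectTransparency false
set_option backward.isDefEq.respectTransparency.types false
set_option linter.style.haveILetI false
set_option linter.unusedSectionVars false

universe u

open CategoryTheory Limits AlgebraicGeometry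

attribute [local instance] HasDerivedCategory.standard

namespace Groth.Agent.Dual3BCR

open Groth.Agent.DQCoh (RD)
open Groth.Agent.PerfGen

/-- a natural isomorphism between two functors of `E|_U` extends to every object of `U` -/
theorem exists_extend {U X : Scheme.{u}} (j : U ⟶ X) [IsOpenImmersion j] [QuasiCompact j] [QuasiSeparated j]
    {C : Type*} [Category* C] (Φ Ψ : DCoh.D U ⥤ C)
    (Ω : ObjectProperty.ι (DCoh.IsQCohD (X := X)) ⋙ RD j ⋙ Φ ≅ ObjectProperty.ι _ ⋙ RD j ⋙ Ψ)
    {G : DCoh.D U} (hG : DCoh.IsQCohD G) :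
    ∃ lam : Φ.obj G ≅ Ψ.obj G, ∀ (E : DCoh.DQCoh X) (s : G ⟶ (RD j).obj E.obj),
      Φ.map s ≫ Ω.hom.app E = lam.hom ≫ Ψ.map s := by
  haveI := isIso_counit_adjR j
  let jG : DCoh.DQCoh X := ⟨(DCoh.Rpush j).obj G, DQPush.isQCohD_rpush j hG⟩
  let ε : (RD j).obj ((DCoh.Rpush j).obj G) ≅ G := asIso ((adjR j).counit.app G)
  refine ⟨(Φ.mapIso ε).symm ≪≫ Ω.app jG ≪≫ Ψ.mapIso ε, fun E s => ?_⟩
  let t : jG ⟶ (⟨(DCoh.Rpush j).obj ((RD j).obj E.obj), DQPush.isQCohD_rpush j (isQCohD_RD j E.property)⟩ :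
      DCoh.DQCoh X) := ObjectProperty.homMk ((DCoh.Rpush j).map s)
  let η : E ⟶ (⟨(DCoh.Rpush j).obj ((RD j).obj E.obj), DQPush.isQCohD_rpush j (isQCohD_RD j E.property)⟩ :
      DCoh.DQCoh X) := ObjectProperty.homMk ((adjR j).unit.app E.obj)
  have h1 : (RD j).map t.hom ≫ (adjR j).counit.app _ = ε.hom ≫ s := (adjR j).counit.naturality s
  have h2 : (RD j).map η.hom ≫ (adjR j).counit.app _ = 𝟙 _ := (adjR j).left_triangle_components E.obj
  have nt := Ω.hom.naturality t
  have nη := Ω.hom.naturality η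
  simp only [Functor.comp_map] at nt nη
  -- compare at `j_* (E|_U)`
  have h3 : (RD j).map t.hom = ε.hom ≫ s ≫ (RD j).map η.hom := by
    rw [← cancel_mono ((adjR j).counit.app ((RD j).obj E.obj)), h1, Category.assoc, Category.assoc, h2]
    exact congrArg (ε.hom ≫ ·) (Category.comp_id s).symm
  show Φ.map s ≫ Ω.hom.app E = ((Φ.mapIso ε).symm ≪≫ Ω.app jG ≪≫ Ψ.mapIso ε).hom ≫ Ψ.map s
  simp only [Iso.trans_hom, Iso.symm_hom, Functor.mapIso_inv, Functor.mapIso_hom, Iso.app_hom,
    Category.assoc]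
  rw [← Functor.map_comp, ← h1, Functor.map_comp]
  erw [← reassoc_of% nt]
  rw [show (ObjectProperty.ι (DCoh.IsQCohD (X := X))).map t = t.hom from rfl, h3,
    Functor.map_comp, Functor.map_comp, Category.assoc, Category.assoc]
  erw [Iso.map_inv_hom_id_assoc]
  erw [reassoc_of% nη]
  rw [← Functor.map_comp]
  erw [h2]
  erw [CategoryTheory.Functor.map_id]
  exact congrArg (Φ.map s ≫ ·) (Category.comp_id _).symm

end Groth.Agent.Dual3BCR
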