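import Groth.Agent.Dual3BCR.Formula
import Groth.Agent.Dual3BCR.Extend
import Groth.Agent.PerfPush.Main
import Groth.Agent.AVMukai.Shift
import Groth.Agent.Dual3Nu.Local

/-!
The natural data of a restricted base change square, and a detection criterion.
-/

set_option autoImplicit false
set_option backward.isDefEq.respectTransparency false
set_option backward.isDefEq.respectTransparency.types false
set_option linter.style.haveILetI false
set_option linter.unusedSectionVars false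

universe u

open CategoryTheory Limits Pretriangulated AlgebraicGeometry

attribute [local instance] HasDerivedCategory.standard

namespace Groth.Agent.Dual3BCR

open Groth.Agent.DQCoh (RD)
open Groth.Agent.PerfGen Groth.Agent.DCohShriek

/-- isomorphisms are detected by inverse images of perfect objects along an affine morphism -/
theorem isIso_of_bijective_lpull {X X₀ : Scheme.{u}} [CompactSpace X₀] [QuasiSeparatedSpace X₀] (q : X ⟶ X₀)
    [IsAffineHom q] [DCoh.HasLpull q] {A B : DCoh.D X} (hA : DCoh.IsQCohD A) (hB : DCoh.IsQCohD B) (c : A ⟶ B)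
    (h : ∀ P : DCoh.D X₀, DCoh.IsPerfect P →
      Function.Bijective fun x : (DCoh.Lpull q).obj P ⟶ A => x ≫ c) : IsIso c := by
  obtain ⟨G, -, hgen, hGp⟩ := exists_gen_qcohD X₀
  haveI := DerPush.hasRpush_sch q
  obtain ⟨N, b, d, hN⟩ := distinguished_cocone_triangle c
  refine (Triangle.isZero₃_iff_isIso₁ _ hN).1 (PerfPush.gen_lpull q hgen hGp N (isQCohD_obj₃ _ hN hA hB)
    (hom_eq_zero_of_bijective hN fun m => ?_))
  obtain ⟨e⟩ := AVMukai.nonempty_lpull_shift q G m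
  have h1 := h _ (DQCoh.perfect_shift hGp m)
  refine ⟨fun x y hxy => (cancel_epi e.hom).1 (h1.1 ?_), fun y => ?_⟩
  · show (e.hom ≫ x) ≫ c = (e.hom ≫ y) ≫ c
    rw [Category.assoc, Category.assoc]
    exact congrArg (e.hom ≫ ·) hxy
  · obtain ⟨x, hx⟩ := h1.2 (e.hom ≫ y)
    exact ⟨e.inv ≫ x, by show (e.inv ≫ x) ≫ c = y; rw [Category.assoc]; erw [show x ≫ c = e.hom ≫ y from hx]; rw [Iso.inv_hom_id_assoc]⟩

variable {X Y X' Y' : Scheme.{u}} {f : X ⟶ Y} {g : Y' ⟶ Y} {f' : X' ⟶ Y'} {g' : X' ⟶ X}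

lemma le_square (hsq : IsPullback g' f' f g) {V : Y.Opens} {V' : Y'.Opens} (e : V' ≤ g ⁻¹ᵁ V) :
    f' ⁻¹ᵁ V' ≤ g' ⁻¹ᵁ f ⁻¹ᵁ V := fun x hx => by
  show (g' ≫ f).base x ∈ V
  rw [hsq.w]
  exact e hx

lemma isPullback_resLE (hsq : IsPullback g' f' f g) {V : Y.Opens} {V' : Y'.Opens} (e : V' ≤ g ⁻¹ᵁ V) :
    IsPullback (g'.resLE (f ⁻¹ᵁ V) (f' ⁻¹ᵁ V') (le_square hsq e)) (f' ∣_ V') (f ∣_ V) (g.resLE V V' e) := by
  have h1 := (isPullback_morphismRestrict f' V').flip.paste_horiz hsq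
  have h2 : IsPullback (g'.resLE (f ⁻¹ᵁ V) (f' ⁻¹ᵁ V') (le_square hsq e) ≫ (f ⁻¹ᵁ V).ι) (f' ∣_ V') f
      (g.resLE V V' e ≫ V.ι) := by
    rw [Scheme.Hom.resLE_comp_ι, Scheme.Hom.resLE_comp_ι]
    exact h1
  refine h2.of_right ?_ (isPullback_morphismRestrict f V).flip
  rw [← cancel_mono V.ι, Category.assoc, morphismRestrict_ι, Scheme.Hom.resLE_comp_ι_assoc, hsq.w,
    Category.assoc, Scheme.Hom.resLE_comp_ι, morphismRestrict_ι_assoc]

lemma nonempty_sq {A A' : Scheme.{u}} (q : A' ⟶ A) (U : A.Opens) (U' : A'.Opens) (e : U' ≤ q ⁻¹ᵁ U)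
    [DCoh.HasLpull q] [DCoh.HasLpull (q.resLE U U' e)] :
    Nonempty (RD U.ι ⋙ DCoh.Lpull (q.resLE U U' e) ≅ DCoh.Lpull q ⋙ RD U'.ι) := by
  haveI := KFlat.hasLpull U.ι
  haveI := KFlat.hasLpull U'.ι
  obtain ⟨a⟩ := Dual3Nu.nonempty_lpull_RD_nat U.ι
  obtain ⟨a'⟩ := Dual3Nu.nonempty_lpull_RD_nat U'.ι
  obtain ⟨sq⟩ := FMTool.nonempty_lpull_square (f := q.resLE U U' e) (g := U.ι) (f' := U'.ι) (g' := q)
    (Scheme.Hom.resLE_comp_ι q e)
  exact ⟨(Functor.isoWhiskerRight a _).symm ≪≫ sq ≪≫ Functor.isoWhiskerLeft _ a'⟩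

variable [DCoh.HasRpush f] [DCoh.HasRpush f'] [DCoh.HasRpush g] [DCoh.HasRpush g']
variable {hf : DCoh.RpushPreservesQCoh f} {hf' : DCoh.RpushPreservesQCoh f'}
variable {hg : DCoh.RpushPreservesQCoh g} {hg' : DCoh.RpushPreservesQCoh g'}
variable [DCoh.HasLpull g] [DCoh.HasLpull g'] {hLg : Dual3.LpullPreservesQCoh g}
  {hLg' : Dual3.LpullPreservesQCoh g'}
variable (e : DCoh.RpushQ g' hg' ⋙ DCoh.RpushQ f hf ≅ DCoh.RpushQ f' hf' ⋙ DCoh.RpushQ g hg)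
  (adjg : Dual3.LpullQ g hLg ⊣ DCoh.RpushQ g hg) (adjg' : Dual3.LpullQ g' hLg' ⊣ DCoh.RpushQ g' hg')

lemma bcPush_naturality {E E' : DCoh.DQCoh X} (φ : E ⟶ E') :
    (Dual3.LpullQ g hLg).map ((DCoh.RpushQ f hf).map φ) ≫ Dual3.bcPush e adjg adjg' E' =
      Dual3.bcPush e adjg adjg' E ≫ (DCoh.RpushQ f' hf').map ((Dual3.LpullQ g' hLg').map φ) := by
  apply (adjg.homEquiv _ _).injective
  rw [Adjunction.homEquiv_naturality_left, Adjunction.homEquiv_naturality_right, Dual3.bcPush, Dual3.bcPush,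
    Equiv.apply_symm_apply, Equiv.apply_symm_apply, Category.assoc]
  have hn := e.hom.naturality ((Dual3.LpullQ g' hLg').map φ)
  simp only [Functor.comp_map] at hn
  rw [← hn, ← Category.assoc, ← Category.assoc, ← Functor.map_comp, ← Functor.map_comp]
  exact congrArg (fun ψ => (DCoh.RpushQ f hf).map ψ ≫ e.hom.app _) (adjg'.unit.naturality φ)

variable [hP : ∀ K : DCoh.DQCoh X, IsIso (Dual3.bcPush e adjg adjg' K)] {V : Y.Opens} {V' : Y'.Opens}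
  [DCoh.HasRpush (f ∣_ V)] [DCoh.HasRpush (f' ∣_ V')] {h : (V' : Scheme.{u}) ⟶ (V : Scheme.{u})}
  {h' : (f' ⁻¹ᵁ V' : Scheme.{u}) ⟶ (f ⁻¹ᵁ V : Scheme.{u})} [DCoh.HasLpull h] [DCoh.HasLpull h']
  (σ : RD V.ι ⋙ DCoh.Lpull h ≅ DCoh.Lpull g ⋙ RD V'.ι)
  (σ' : RD (f ⁻¹ᵁ V).ι ⋙ DCoh.Lpull h' ≅ DCoh.Lpull g' ⋙ RD (f' ⁻¹ᵁ V').ι)

/-- components of the comparison -/
noncomputable def omegaApp (E : DCoh.DQCoh X) :
    (DCoh.Rpush (f' ∣_ V')).obj ((DCoh.Lpull h').obj ((RD (f ⁻¹ᵁ V).ι).obj E.obj)) ≅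
      (DCoh.Lpull h).obj ((DCoh.Rpush (f ∣_ V)).obj ((RD (f ⁻¹ᵁ V).ι).obj E.obj)) :=
  (DCoh.Rpush (f' ∣_ V')).mapIso (σ'.app E.obj) ≪≫
    ((DQPush.rpushRestrIso f' V').app ((DCoh.Lpull g').obj E.obj)).symm ≪≫
      (RD V'.ι).mapIso ((ObjectProperty.ι _).mapIso (asIso (Dual3.bcPush e adjg adjg' E))).symm ≪≫
        (σ.app ((DCoh.Rpush f).obj E.obj)).symm ≪≫
          (DCoh.Lpull h).mapIso ((DQPush.rpushRestrIso f V).app E.obj)

/-- the comparison for restrictions -/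
noncomputable def omega :
    ObjectProperty.ι (DCoh.IsQCohD (X := X)) ⋙ RD (f ⁻¹ᵁ V).ι ⋙ (DCoh.Lpull h' ⋙ DCoh.Rpush (f' ∣_ V')) ≅
      ObjectProperty.ι _ ⋙ RD (f ⁻¹ᵁ V).ι ⋙ (DCoh.Rpush (f ∣_ V) ⋙ DCoh.Lpull h) :=
  NatIso.ofComponents (omegaApp e adjg adjg' σ σ') fun {E E'} φ => by
    have n1 : (DCoh.Lpull h').map ((RD (f ⁻¹ᵁ V).ι).map φ.hom) ≫ σ'.hom.app E'.obj =
        σ'.hom.app E.obj ≫ (RD (f' ⁻¹ᵁ V').ι).map ((DCoh.Lpull g').map φ.hom) := σ'.hom.naturality φ.hom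
    have n2 : (DCoh.Rpush (f' ∣_ V')).map ((RD (f' ⁻¹ᵁ V').ι).map ((DCoh.Lpull g').map φ.hom)) ≫
          (DQPush.rpushRestrIso f' V').inv.app ((DCoh.Lpull g').obj E'.obj) =
        (DQPush.rpushRestrIso f' V').inv.app ((DCoh.Lpull g').obj E.obj) ≫
          (RD V'.ι).map ((DCoh.Rpush f').map ((DCoh.Lpull g').map φ.hom)) :=
      (DQPush.rpushRestrIso f' V').inv.naturality _
    have n3 : (DCoh.Rpush f').map ((DCoh.Lpull g').map φ.hom) ≫ (inv (Dual3.bcPush e adjg adjg' E')).hom =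
        (inv (Dual3.bcPush e adjg adjg' E)).hom ≫ (DCoh.Lpull g).map ((DCoh.Rpush f).map φ.hom) := by
      refine congrArg InducedCategory.Hom.hom (show (DCoh.RpushQ f' hf').map ((Dual3.LpullQ g' hLg').map φ) ≫
        inv (Dual3.bcPush e adjg adjg' E') = inv (Dual3.bcPush e adjg adjg' E) ≫
          (Dual3.LpullQ g hLg).map ((DCoh.RpushQ f hf).map φ) from ?_)
      rw [IsIso.eq_inv_comp, ← reassoc_of% bcPush_naturality e adjg adjg' φ, IsIso.hom_inv_id,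
        Category.comp_id]
    have n4 : (RD V'.ι).map ((DCoh.Lpull g).map ((DCoh.Rpush f).map φ.hom)) ≫
          σ.inv.app ((DCoh.Rpush f).obj E'.obj) =
        σ.inv.app ((DCoh.Rpush f).obj E.obj) ≫ (DCoh.Lpull h).map ((RD V.ι).map ((DCoh.Rpush f).map φ.hom)) :=
      σ.inv.naturality _
    have n5 : (RD V.ι).map ((DCoh.Rpush f).map φ.hom) ≫ (DQPush.rpushRestrIso f V).hom.app E'.obj =
        (DQPush.rpushRestrIso f V).hom.app E.obj ≫
          (DCoh.Rpush (f ∣_ V)).map ((RD (f ⁻¹ᵁ V).ι).map φ.hom) :=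
      (DQPush.rpushRestrIso f V).hom.naturality _
    show (DCoh.Rpush (f' ∣_ V')).map ((DCoh.Lpull h').map ((RD (f ⁻¹ᵁ V).ι).map φ.hom)) ≫
        (omegaApp e adjg adjg' σ σ' E').hom = (omegaApp e adjg adjg' σ σ' E).hom ≫
          (DCoh.Lpull h).map ((DCoh.Rpush (f ∣_ V)).map ((RD (f ⁻¹ᵁ V).ι).map φ.hom))
    simp only [omegaApp, Iso.trans_hom, Functor.mapIso_hom, Iso.symm_hom, Iso.app_hom, Iso.app_inv,
      Functor.mapIso_inv, asIso_inv, Category.assoc, ObjectProperty.ι_map]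
    rw [← Functor.map_comp_assoc (DCoh.Rpush (f' ∣_ V')), n1, Functor.map_comp_assoc]
    erw [reassoc_of% n2]
    erw [← Functor.map_comp_assoc (RD V'.ι), n3]
    rw [Functor.map_comp_assoc]
    erw [reassoc_of% n4]
    erw [← Functor.map_comp (DCoh.Lpull h), n5]
    rw [Functor.map_comp (DCoh.Lpull h)]

variable {a : DCoh.DQCoh Y ⥤ DCoh.DQCoh X} {a' : DCoh.DQCoh Y' ⥤ DCoh.DQCoh X'}
  (adj : DCoh.RpushQ f hf ⊣ a) (adj' : DCoh.RpushQ f' hf' ⊣ a')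
  {hfV : DCoh.RpushPreservesQCoh (f ∣_ V)} {aV : DCoh.DQCoh V ⥤ DCoh.DQCoh (f ⁻¹ᵁ V)}
  (adjV : DCoh.RpushQ (f ∣_ V) hfV ⊣ aV)
  {hfV' : DCoh.RpushPreservesQCoh (f' ∣_ V')} {aV' : DCoh.DQCoh V' ⥤ DCoh.DQCoh (f' ⁻¹ᵁ V')}
  (adjV' : DCoh.RpushQ (f' ∣_ V') hfV' ⊣ aV')

/-- the transpose of the restricted base change map -/
theorem tr_bcMap (K : DCoh.DQCoh Y) (hξ : IsIso (Dual3.xi adj adj' e ((Dual3.LpullQ g hLg).obj K))) :
    tr adjV' (σ'.hom.app (a.obj K).obj ≫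
        (RD (f' ⁻¹ᵁ V').ι).map (Dual3.bcMap adj adj' e adjg adjg' K hξ).hom ≫
          thetaApp f' adj' V' adjV' ((Dual3.LpullQ g hLg).obj K)) =
      (omega e adjg adjg' σ σ').hom.app (a.obj K) ≫ (DCoh.Lpull h).map (tr adjV (thetaApp f adj V adjV K)) ≫
        σ.hom.app K.obj := by
  rw [tr_comp, tr_thetaApp]
  erw [tr_thetaApp_comp]
  have hF : (inv (Dual3.bcPush e adjg adjg' (a.obj K))).hom ≫ (DCoh.Lpull g).map (adj.counit.app K).hom =
      tr adj' (Dual3.bcMap adj adj' e adjg adjg' K hξ).hom := by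
    have h0 : (adj'.homEquiv _ _).symm (Dual3.bcMap adj adj' e adjg adjg' K hξ) =
        inv (Dual3.bcPush e adjg adjg' (a.obj K)) ≫ (Dual3.LpullQ g hLg).map (adj.counit.app K) := by
      rw [IsIso.eq_inv_comp]
      exact bcPush_comp_transpose adj adj' e adjg adjg' K hξ
    rw [Adjunction.homEquiv_counit] at h0
    exact (congrArg InducedCategory.Hom.hom h0).symm
  show _ = (omegaApp e adjg adjg' σ σ' (a.obj K)).hom ≫ _
  simp only [omegaApp, Iso.trans_hom, Functor.mapIso_hom, Iso.symm_hom, Iso.app_hom, Iso.app_inv,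
    Functor.mapIso_inv, asIso_inv, Category.assoc, ObjectProperty.ι_map]
  refine congrArg ((DCoh.Rpush (f' ∣_ V')).map (σ'.hom.app (a.obj K).obj) ≫ ·) ?_
  refine congrArg ((DQPush.rpushRestrIso f' V').inv.app _ ≫ ·) ?_
  rw [← hF, Functor.map_comp]
  refine congrArg ((RD V'.ι).map _ ≫ ·) ?_
  rw [← Functor.map_comp_assoc, Iso.hom_inv_id_app_assoc]
  erw [σ.hom.naturality (adj.counit.app K).hom]
  exact (Iso.inv_hom_id_app_assoc σ _ _).symm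

end Groth.Agent.Dual3BCR
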