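import Groth.Agent.Dual3BCR.Shriek
import Groth.Agent.DCohShriek.Section
import Groth.Agent.FMTool.Diag

/-!
`f^! = Lf^*` for etale morphisms.
-/

set_option autoImplicit false
set_option backward.isDefEq.respectTransparency false
set_option backward.isDefEq.respectTransparency.types false
set_option linter.style.haveILetI false
set_option linter.unusedSectionVars false

universe u

open CategoryTheory Limits AlgebraicGeometry

attribute [local instance] HasDerivedCategory.standard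

namespace Groth.Agent.Dual3BCR

open Groth.Agent.DQCoh (RD)
open Groth.Agent.PerfGen Groth.Agent.DCohShriek

/-- **`f^! = Lf^*` for etale `f`** -/
theorem nonempty_shriek_etale {X Y : Scheme.{u}} [IsNoetherian X] [IsNoetherian Y] {f : X ⟶ Y} [Etale f]
    [IsSeparated f] (c : DEt.Compactification f) [DCoh.HasRpush c.fbar]
    {hc : DCoh.RpushPreservesQCoh c.fbar} {a : DCoh.DQCoh Y ⥤ DCoh.DQCoh c.Xbar}
    (adj : DCoh.RpushQ c.fbar hc ⊣ a) [DCoh.HasLpull f] :
    Nonempty (Dual3.bddι Y ⋙ a ⋙ ObjectProperty.ι _ ⋙ RD c.j ≅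
      Dual3.bddι Y ⋙ ObjectProperty.ι _ ⋙ DCoh.Lpull f) := by
  haveI : Flat f := inferInstance
  haveI : QuasiCompact f := quasiCompact_of_compactSpace _
  let P := pullback f f
  let p₁ := pullback.fst f f
  let p₂ := pullback.snd f f
  let Δ := pullback.diagonal f
  haveI : IsOpenImmersion Δ := inferInstanceAs (IsOpenImmersion (pullback.diagonal f))
  haveI : CompactSpace (P : Scheme.{u}) := QuasiCompact.compactSpace_of_compactSpace p₂
  haveI : QuasiSeparatedSpace (P : Scheme.{u}) := quasiSeparatedSpace_of_quasiSeparated p₂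
  -- a compactification of the second projection
  have H : IsPullback (pullback.fst c.fbar f) (pullback.snd c.fbar f) c.fbar f := IsPullback.of_hasPullback _ _
  let fb := pullback.snd c.fbar f
  let jb : P ⟶ pullback c.fbar f := pullback.lift (p₁ ≫ c.j) p₂ (by rw [Category.assoc, c.fac, pullback.condition])
  have hjb : jb ≫ pullback.fst c.fbar f = p₁ ≫ c.j := pullback.lift_fst _ _ _
  have hfb : jb ≫ fb = p₂ := pullback.lift_snd _ _ _
  have hsq' : IsPullback p₁ (jb ≫ fb) (c.j ≫ c.fbar) f := by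
    rw [hfb, c.fac]; exact IsPullback.of_hasPullback f f
  haveI : IsOpenImmersion jb :=
    MorphismProperty.of_isPullback (P := @IsOpenImmersion) (hsq'.of_bot hjb.symm H) c.isOpenImmersion
  let cb : DEt.Compactification p₂ :=
    { Xbar := pullback c.fbar f, j := jb, fbar := fb, isOpenImmersion := inferInstance,
      isProper := inferInstance, fac := hfb }
  haveI : CompactSpace c.Xbar := QuasiCompact.compactSpace_of_compactSpace c.fbar
  haveI : CompactSpace (pullback c.fbar f : Scheme.{u}) := QuasiCompact.compactSpace_of_compactSpace fb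
  haveI : QuasiSeparatedSpace (pullback c.fbar f : Scheme.{u}) := quasiSeparatedSpace_of_quasiSeparated fb
  haveI : IsProper fb := inferInstance
  haveI : DCoh.HasRpush cb.fbar := DerPush.hasRpush_sch fb
  have hfbq : DCoh.RpushPreservesQCoh cb.fbar := fun K hK => DQPush.isQCohD_rpush fb hK
  haveI := isLeftAdjoint_rpushQ cb.fbar hfbq
  let adjb := Adjunction.ofIsLeftAdjoint (DCoh.RpushQ cb.fbar hfbq)
  haveI := KFlat.hasLpull p₁
  have hLf : Dual3.LpullPreservesQCoh f := fun K hK => DQCoh.isQCohD_Lpull f K hK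
  obtain ⟨η⟩ := nonempty_shriek_bc (IsPullback.of_hasPullback f f) c cb adj adjb hLf
  -- restrict along the diagonal
  obtain ⟨s⟩ := nonempty_iso_of_section fb adjb (Δ ≫ jb) (𝟙 X)
    (by rw [Category.assoc, hfb]; exact pullback.diagonal_snd f)
    (Dual3.bddι Y ⋙ Dual3.LpullQ f hLf) (fun K => by
      obtain ⟨n, hn⟩ := K.property
      exact ⟨some n, fin'_some fb n, HomBC.bdd_Lpull_flat f (bdd_of_isGE hn)⟩)
  haveI := KFlat.hasLpull Δ
  haveI := KFlat.hasLpull jb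
  haveI := KFlat.hasLpull (Δ ≫ jb)
  haveI := KFlat.hasLpull (Δ ≫ p₁)
  haveI := KFlat.hasLpull (𝟙 X)
  obtain ⟨ej⟩ := Dual3Nu.nonempty_lpull_RD_nat jb
  obtain ⟨ec⟩ := Dual3Nu.nonempty_lpull_RD_nat (Δ ≫ jb)
  obtain ⟨ei⟩ := Dual3Nu.nonempty_lpull_RD_nat (𝟙 X)
  obtain ⟨cmp₁⟩ := KFlat.Lpull_comp_sch Δ jb
  obtain ⟨cmp₂⟩ := KFlat.Lpull_comp_sch Δ p₁
  obtain ⟨idp⟩ : Nonempty (DCoh.Lpull (Δ ≫ p₁) ≅ 𝟭 (DCoh.D X)) := by
    have : Δ ≫ p₁ = 𝟙 X := pullback.diagonal_fst f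
    rw! [this]
    exact FMTool.nonempty_lpull_id X
  obtain ⟨id'⟩ := FMTool.nonempty_lpull_id X
  let B : Dual3.bddι Y ⋙ Dual3.LpullQ f hLf ⋙ _ ⋙ ObjectProperty.ι _ ⋙ RD (Δ ≫ jb) ≅
      Dual3.bddι Y ⋙ Dual3.LpullQ f hLf ⋙ ObjectProperty.ι _ :=
    s ≪≫ Functor.isoWhiskerLeft (Dual3.bddι Y ⋙ Dual3.LpullQ f hLf ⋙ ObjectProperty.ι _) (ei.symm ≪≫ id')
  exact ⟨Functor.isoWhiskerLeft (Dual3.bddι Y ⋙ a ⋙ ObjectProperty.ι _ ⋙ RD c.j) (idp.symm ≪≫ cmp₂.symm) ≪≫
    Functor.isoWhiskerRight η (DCoh.Lpull Δ) ≪≫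
    Functor.isoWhiskerLeft (Dual3.bddι Y ⋙ Dual3.LpullQ f hLf ⋙ _ ⋙ ObjectProperty.ι _)
      (Functor.isoWhiskerRight ej.symm (DCoh.Lpull Δ) ≪≫ cmp₁ ≪≫ ec) ≪≫ B⟩

end Groth.Agent.Dual3BCR
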