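import Groth.Prelude.Def_Dual3

/-!
The transpose of the base change map of right adjoints.
-/

set_option autoImplicit false
set_option backward.isDefEq.respectTransparency false
set_option linter.style.haveILetI false
set_option linter.unusedSectionVars false

universe u

open CategoryTheory CategoryTheory.Limits AlgebraicGeometry

attribute [local instance] HasDerivedCategory.standard

namespace Groth.Agent.Dual3BCR

variable {X Y X' Y' : Scheme.{u}} {f : X ⟶ Y} {g : Y' ⟶ Y} {f' : X' ⟶ Y'} {g' : X' ⟶ X}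
variable [DCoh.HasRpush f] [DCoh.HasRpush f'] [DCoh.HasRpush g] [DCoh.HasRpush g']
variable {hf : DCoh.RpushPreservesQCoh f} {hf' : DCoh.RpushPreservesQCoh f'}
variable {hg : DCoh.RpushPreservesQCoh g} {hg' : DCoh.RpushPreservesQCoh g'}
variable {a : DCoh.DQCoh Y ⥤ DCoh.DQCoh X} {a' : DCoh.DQCoh Y' ⥤ DCoh.DQCoh X'}
variable [DCoh.HasLpull g] [DCoh.HasLpull g'] {hLg : Dual3.LpullPreservesQCoh g}
  {hLg' : Dual3.LpullPreservesQCoh g'}

/-- `bcPush ≫ (transpose of bcMap) = Lg^*(counit)` -/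
theorem bcPush_comp_transpose (adj : DCoh.RpushQ f hf ⊣ a) (adj' : DCoh.RpushQ f' hf' ⊣ a')
    (e : DCoh.RpushQ g' hg' ⋙ DCoh.RpushQ f hf ≅ DCoh.RpushQ f' hf' ⋙ DCoh.RpushQ g hg)
    (adjg : Dual3.LpullQ g hLg ⊣ DCoh.RpushQ g hg) (adjg' : Dual3.LpullQ g' hLg' ⊣ DCoh.RpushQ g' hg')
    (K : DCoh.DQCoh Y) (hξ : IsIso (Dual3.xi adj adj' e ((Dual3.LpullQ g hLg).obj K))) :
    Dual3.bcPush e adjg adjg' (a.obj K) ≫ (adj'.homEquiv _ _).symm (Dual3.bcMap adj adj' e adjg adjg' K hξ) =
      (Dual3.LpullQ g hLg).map (adj.counit.app K) := by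
  haveI := hξ
  apply (adjg.homEquiv _ _).injective
  rw [Adjunction.homEquiv_naturality_right, Dual3.bcPush, Equiv.apply_symm_apply, Adjunction.homEquiv_unit adjg,
    Adjunction.homEquiv_counit adj']
  refine Eq.trans ?_ (adjg.unit.naturality (adj.counit.app K))
  simp only [Functor.id_map, Functor.map_comp, Category.assoc]
  have hn := e.hom.naturality (Dual3.bcMap adj adj' e adjg adjg' K hξ)
  simp only [Functor.comp_map] at hn
  rw [← reassoc_of% hn, ← Functor.map_comp_assoc]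
  have h1 : adjg'.unit.app (a.obj K) ≫ (DCoh.RpushQ g' hg').map (Dual3.bcMap adj adj' e adjg adjg' K hξ) =
      a.map (adjg.unit.app K) ≫ inv (Dual3.xi adj adj' e ((Dual3.LpullQ g hLg).obj K)) := by
    refine (Adjunction.homEquiv_unit adjg' _ _ _).symm.trans ?_
    refine (Equiv.eq_symm_apply _).1 ?_
    rw [Adjunction.homEquiv_counit, Dual3.bcMap, Functor.map_comp, Category.assoc]
  rw [h1, Functor.map_comp, Category.assoc]
  have h2 : (DCoh.RpushQ f hf).map (Dual3.xi adj adj' e ((Dual3.LpullQ g hLg).obj K)) ≫ adj.counit.app _ =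
      e.hom.app _ ≫ (DCoh.RpushQ g hg).map (adj'.counit.app _) := by
    refine (Adjunction.homEquiv_counit adj _ _ _).symm.trans ?_
    rw [Dual3.xi]; exact Equiv.symm_apply_apply _ _
  rw [← h2, ← Functor.map_comp_assoc (DCoh.RpushQ f hf) (inv _), IsIso.inv_hom_id,
    CategoryTheory.Functor.map_id, Category.id_comp]
  exact adj.counit.naturality (adjg.unit.app K)

end Groth.Agent.Dual3BCR
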