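import Groth.Agent.Dual3BCR.Square
import Groth.Agent.HomBC.Bdd
import Groth.Agent.DCohShriek.SuppApps

/-!
**The base change map of right adjoints is invertible over affine opens.**
-/

set_option autoImplicit false
set_option backward.isDefEq.respectTransparency false
set_option backward.isDefEq.respectTransparency.types false
set_option linter.style.haveILetI false
set_option linter.unusedSectionVars false
set_option maxHeartbeats 1600000

universe u

open CategoryTheory Limits Pretriangulated AlgebraicGeometry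
open scoped TensorProduct

attribute [local instance] HasDerivedCategory.standard

namespace Groth.Agent.Dual3BCR

open Groth.Agent.DQCoh (RD)
open Groth.Agent.PerfGen Groth.Agent.DCohShriek Groth.Agent.HomBC

/-- flatness of the ring map of a flat morphism of affine schemes -/
lemma flat_appTop {V V' : Scheme.{u}} [IsAffine V] [IsAffine V'] (h : V' ⟶ V) [Flat h] :
    h.appTop.hom.Flat := by
  haveI : Flat (V'.toSpecΓ ≫ Spec.map h.appTop) := by
    rw [← Scheme.toSpecΓ_naturality]; infer_instance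
  haveI : Flat (inv V'.toSpecΓ ≫ V'.toSpecΓ ≫ Spec.map h.appTop) := inferInstance
  rw [IsIso.inv_hom_id_assoc] at this
  exact Flat.SpecMap_iff.1 this

variable {X Y X' Y' : Scheme.{u}} {f : X ⟶ Y} {g : Y' ⟶ Y} {f' : X' ⟶ Y'} {g' : X' ⟶ X}
variable [DCoh.HasRpush f] [DCoh.HasRpush f'] [DCoh.HasRpush g] [DCoh.HasRpush g']
variable {hf : DCoh.RpushPreservesQCoh f} {hf' : DCoh.RpushPreservesQCoh f'}
variable {hg : DCoh.RpushPreservesQCoh g} {hg' : DCoh.RpushPreservesQCoh g'}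
variable [DCoh.HasLpull g] [DCoh.HasLpull g'] {hLg : Dual3.LpullPreservesQCoh g}
  {hLg' : Dual3.LpullPreservesQCoh g'}
  {a : DCoh.DQCoh Y ⥤ DCoh.DQCoh X} {a' : DCoh.DQCoh Y' ⥤ DCoh.DQCoh X'}

theorem isIso_RD_bcMap [CompactSpace Y] [QuasiSeparatedSpace Y] [CompactSpace Y'] [QuasiSeparatedSpace Y']
    [QuasiCompact f] [QuasiSeparated f] [Flat g] (hsq : IsPullback g' f' f g)
    (e : DCoh.RpushQ g' hg' ⋙ DCoh.RpushQ f hf ≅ DCoh.RpushQ f' hf' ⋙ DCoh.RpushQ g hg)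
    (adjg : Dual3.LpullQ g hLg ⊣ DCoh.RpushQ g hg) (adjg' : Dual3.LpullQ g' hLg' ⊣ DCoh.RpushQ g' hg')
    (adj : DCoh.RpushQ f hf ⊣ a) (adj' : DCoh.RpushQ f' hf' ⊣ a')
    [hP : ∀ K : DCoh.DQCoh X, IsIso (Dual3.bcPush e adjg adjg' K)]
    {o : Option ℤ} (hfin : Fin' o f) (hfin' : Fin' o f') (K : DCoh.DQCoh Y) (hb : Bdd o K.obj)
    (hξ : IsIso (Dual3.xi adj adj' e ((Dual3.LpullQ g hLg).obj K)))
    (V : Y.Opens) (hV : IsAffineOpen V) (V' : Y'.Opens) (hV' : IsAffineOpen V') (he : V' ≤ g ⁻¹ᵁ V) :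
    IsIso ((RD (f' ⁻¹ᵁ V').ι).map (Dual3.bcMap adj adj' e adjg adjg' K hξ).hom) := by
  haveI : QuasiCompact f' := MorphismProperty.of_isPullback (P := @QuasiCompact) hsq ‹_›
  haveI : QuasiSeparated f' := MorphismProperty.of_isPullback (P := @QuasiSeparated) hsq ‹_›
  haveI : IsAffine (V : Scheme.{u}) := hV
  haveI : IsAffine (V' : Scheme.{u}) := hV'
  haveI : CompactSpace X := QuasiCompact.compactSpace_of_compactSpace f
  haveI : QuasiSeparatedSpace X := quasiSeparatedSpace_of_quasiSeparated f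
  have hUc : IsCompact ((f ⁻¹ᵁ V : X.Opens) : Set X) := f.isCompact_preimage hV.isCompact
  haveI : CompactSpace (f ⁻¹ᵁ V) := isCompact_iff_compactSpace.1 hUc
  haveI : QuasiSeparatedSpace (f ⁻¹ᵁ V) := quasiSeparatedSpace_of_quasiSeparated (f ⁻¹ᵁ V).ι
  haveI : QuasiCompact (f ⁻¹ᵁ V).ι := quasiCompact_of_compactSpace _
  haveI : QuasiCompact (f ∣_ V) := quasiCompact_of_compactSpace _
  haveI : CompactSpace X' := QuasiCompact.compactSpace_of_compactSpace f'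
  haveI : QuasiSeparatedSpace X' := quasiSeparatedSpace_of_quasiSeparated f'
  haveI : CompactSpace (f' ⁻¹ᵁ V') := isCompact_iff_compactSpace.1 (f'.isCompact_preimage hV'.isCompact)
  haveI : QuasiSeparatedSpace (f' ⁻¹ᵁ V') := quasiSeparatedSpace_of_quasiSeparated (f' ⁻¹ᵁ V').ι
  haveI : QuasiCompact (f' ∣_ V') := quasiCompact_of_compactSpace _
  haveI := DerPush.hasRpush_sch (f ∣_ V)
  haveI := DerPush.hasRpush_sch (f' ∣_ V')
  have hfV : DCoh.RpushPreservesQCoh (f ∣_ V) := fun K hK => DQPush.isQCohD_rpush (f ∣_ V) hK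
  have hfV' : DCoh.RpushPreservesQCoh (f' ∣_ V') := fun K hK => DQPush.isQCohD_rpush (f' ∣_ V') hK
  haveI := isLeftAdjoint_rpushQ (f ∣_ V) hfV
  haveI := isLeftAdjoint_rpushQ (f' ∣_ V') hfV'
  let adjV := Adjunction.ofIsLeftAdjoint (DCoh.RpushQ (f ∣_ V) hfV)
  let adjV' := Adjunction.ofIsLeftAdjoint (DCoh.RpushQ (f' ∣_ V') hfV')
  -- the square
  let h := g.resLE V V' he
  let h' := g'.resLE (f ⁻¹ᵁ V) (f' ⁻¹ᵁ V') (le_square hsq he)
  have hsqU : IsPullback h' (f' ∣_ V') (f ∣_ V) h := isPullback_resLE hsq he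
  haveI : Flat h := inferInstance
  haveI : IsAffineHom h := inferInstance
  haveI : IsAffineHom h' := MorphismProperty.of_isPullback (P := @IsAffineHom) hsqU.flip inferInstance
  haveI := KFlat.hasLpull h
  haveI := KFlat.hasLpull h'
  -- scalars
  let R : Type u := Γ((V : Scheme.{u}), ⊤)
  let R' : Type u := Γ((V' : Scheme.{u}), ⊤)
  letI : Algebra R R' := h.appTop.hom.toAlgebra
  haveI : Module.Flat R R' := flat_appTop h
  letI : (V : Scheme.{u}).Over (Spec (CommRingCat.of R)) := ⟨(V : Scheme.{u}).toSpecΓ⟩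
  letI : (V' : Scheme.{u}).Over (Spec (CommRingCat.of R')) := ⟨(V' : Scheme.{u}).toSpecΓ⟩
  letI : (V' : Scheme.{u}).Over (Spec (CommRingCat.of R)) := ⟨h ≫ (V : Scheme.{u}).toSpecΓ⟩
  letI : (f ⁻¹ᵁ V : Scheme.{u}).Over (Spec (CommRingCat.of R)) := ⟨(f ∣_ V) ≫ (V : Scheme.{u}).toSpecΓ⟩
  letI : (f' ⁻¹ᵁ V' : Scheme.{u}).Over (Spec (CommRingCat.of R')) := ⟨(f' ∣_ V') ≫ (V' : Scheme.{u}).toSpecΓ⟩
  letI : (f' ⁻¹ᵁ V' : Scheme.{u}).Over (Spec (CommRingCat.of R)) :=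
    ⟨h' ≫ (f ∣_ V) ≫ (V : Scheme.{u}).toSpecΓ⟩
  haveI : h.IsOver (Spec (CommRingCat.of R)) := ⟨rfl⟩
  haveI : h'.IsOver (Spec (CommRingCat.of R)) := ⟨rfl⟩
  haveI : (f ∣_ V).IsOver (Spec (CommRingCat.of R)) := ⟨rfl⟩
  haveI : (f' ∣_ V').IsOver (Spec (CommRingCat.of R')) := ⟨rfl⟩
  have hsqV : IsPullback h ((V' : Scheme.{u}) ↘ Spec (CommRingCat.of R'))
      ((V : Scheme.{u}) ↘ Spec (CommRingCat.of R)) (Spec.map (CommRingCat.ofHom (algebraMap R R'))) := by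
    haveI : IsIso ((V' : Scheme.{u}) ↘ Spec (CommRingCat.of R')) :=
      inferInstanceAs (IsIso (V' : Scheme.{u}).toSpecΓ)
    haveI : IsIso ((V : Scheme.{u}) ↘ Spec (CommRingCat.of R)) :=
      inferInstanceAs (IsIso (V : Scheme.{u}).toSpecΓ)
    exact IsPullback.of_vert_isIso ⟨Scheme.toSpecΓ_naturality h⟩
  have hsqU' : IsPullback h' ((f' ⁻¹ᵁ V' : Scheme.{u}) ↘ Spec (CommRingCat.of R'))
      ((f ⁻¹ᵁ V : Scheme.{u}) ↘ Spec (CommRingCat.of R)) (Spec.map (CommRingCat.ofHom (algebraMap R R'))) :=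
    hsqU.paste_vert hsqV
  haveI := additive_Lpull h
  haveI := additive_Lpull h'
  haveI := linear_Lpull (A := R) h
  haveI := linear_Lpull (A := R) h'
  haveI : ∀ A B : DCoh.D (V' : Scheme.{u}), IsScalarTower R R' (A ⟶ B) := tower_of_sq hsqV
  haveI : ∀ A B : DCoh.D (f' ⁻¹ᵁ V' : Scheme.{u}), IsScalarTower R R' (A ⟶ B) := tower_of_sq hsqU'
  haveI := DCohShriek.additive_rpush (f ∣_ V)
  haveI := DCohShriek.additive_rpush (f' ∣_ V')
  haveI := DCohShriek.linear_rpush (A := R) (f ∣_ V)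
  haveI := DCohShriek.linear_rpush (A := R') (f' ∣_ V')
  obtain ⟨σ⟩ := nonempty_sq g V V' he
  obtain ⟨σ'⟩ := nonempty_sq g' (f ⁻¹ᵁ V) (f' ⁻¹ᵁ V') (le_square hsq he)
  -- the two comparisons
  let K' := (Dual3.LpullQ g hLg).obj K
  haveI hθ : IsIso (thetaApp f adj V adjV K) := isIso_thetaApp f adj V adjV hfin hV.isCompact K hb
  haveI hθ' : IsIso (thetaApp f' adj' V' adjV' K') :=
    isIso_thetaApp f' adj' V' adjV' hfin' hV'.isCompact K' (bdd_Lpull_flat g hb)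
  let c := (RD (f' ⁻¹ᵁ V').ι).map (Dual3.bcMap adj adj' e adjg adjg' K hξ).hom
  let θ' := thetaApp f' adj' V' adjV' K'
  let sK := σ'.hom.app (a.obj K).obj
  let t := tr adjV (thetaApp f adj V adjV K)
  refine isIso_of_bijective_lpull h' (isQCohD_RD _ ((Dual3.LpullQ g' hLg').obj (a.obj K)).property)
    (isQCohD_RD _ (a'.obj K').property) c fun G hG => ?_
  have hGq : DCoh.IsQCohD G := isQCohD_of_isPerfect hG
  obtain ⟨lam, hlam⟩ := exists_extend (f ⁻¹ᵁ V).ι _ _ (omega e adjg adjg' σ σ') hGq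
  -- transposition upstairs
  let T : (G ⟶ (RD (f ⁻¹ᵁ V).ι).obj (a.obj K).obj) →ₗ[R]
      ((DCoh.Rpush (f ∣_ V)).obj G ⟶ (RD V.ι).obj K.obj) :=
    (Linear.rightComp R _ t).comp ((DCoh.Rpush (f ∣_ V)).mapLinearMap R)
  have hT : Function.Bijective T := by
    have : ⇑T = tr adjV ∘ fun s => s ≫ thetaApp f adj V adjV K := funext fun s => (tr_comp adjV s _).symm
    rw [this]
    exact (tr_bijective adjV hGq ((rdQ V.ι).obj K)).comp (asIso (thetaApp f adj V adjV K)).homToEquiv.bijective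
  let eT := LinearEquiv.ofBijective T hT
  let C₀ := tr adjV' (sK ≫ c ≫ θ')
  let F : ((DCoh.Lpull h').obj G ⟶ (DCoh.Lpull h').obj ((RD (f ⁻¹ᵁ V).ι).obj (a.obj K).obj)) →ₗ[R']
      ((DCoh.Rpush (f' ∣_ V')).obj ((DCoh.Lpull h').obj G) ⟶ (RD V'.ι).obj K'.obj) :=
    (Linear.rightComp R' _ C₀).comp ((DCoh.Rpush (f' ∣_ V')).mapLinearMap R')
  let W : ((DCoh.Lpull h).obj ((DCoh.Rpush (f ∣_ V)).obj G) ⟶ (DCoh.Lpull h).obj ((RD V.ι).obj K.obj)) →ₗ[R']
      ((DCoh.Rpush (f' ∣_ V')).obj ((DCoh.Lpull h').obj G) ⟶ (RD V'.ι).obj K'.obj) :=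
    (Linear.leftComp R' _ lam.hom).comp (Linear.rightComp R' _ (σ.hom.app K.obj))
  have hW : Function.Bijective W := by
    refine ⟨fun x y hxy => ?_, fun z => ⟨inv lam.hom ≫ z ≫ inv (σ.hom.app K.obj), ?_⟩⟩
    · have h1 : lam.hom ≫ x ≫ σ.hom.app K.obj = lam.hom ≫ y ≫ σ.hom.app K.obj := hxy
      exact (cancel_mono (σ.hom.app K.obj)).1 ((cancel_epi lam.hom).1 h1)
    · show lam.hom ≫ (inv lam.hom ≫ z ≫ inv (σ.hom.app K.obj)) ≫ σ.hom.app K.obj = z
      simp only [Category.assoc, IsIso.inv_hom_id, IsIso.hom_inv_id_assoc, Category.comp_id]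
  have key : ∀ x, F (bcm R R' (DCoh.Lpull h') G ((RD (f ⁻¹ᵁ V).ι).obj (a.obj K).obj) x) =
      W (bcm R R' (DCoh.Lpull h) _ _ (eT.lTensor R' x)) := fun x => by
    induction x using TensorProduct.induction_on with
    | zero => simp
    | tmul r s =>
      rw [LinearEquiv.lTensor_tmul, bcm_tmul, bcm_tmul, map_smul, map_smul]
      refine congrArg (r • ·) ?_
      show (DCoh.Rpush (f' ∣_ V')).map ((DCoh.Lpull h').map s) ≫ tr adjV' (sK ≫ c ≫ θ') =
        lam.hom ≫ (DCoh.Lpull h).map ((DCoh.Rpush (f ∣_ V)).map s ≫ t) ≫ σ.hom.app K.obj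
      rw [tr_bcMap e adjg adjg' σ σ' adj adj' adjV adjV' K hξ, Functor.map_comp_assoc]
      exact (reassoc_of% (hlam (a.obj K) s)) _
    | add a b ha hb => simp only [map_add, ha, hb]
  have hV₂ : BC R R' (DCoh.Lpull h) ((DCoh.Rpush (f ∣_ V)).obj G) ((RD V.ι).obj K.obj) :=
    bc_okO hsqV (hfV G hGq) (fin'_restrict f hfin V hUc G hG) (isQCohD_RD _ K.property) (bdd_RD V.ι hb)
  have hU₂ : BC R R' (DCoh.Lpull h') G ((RD (f ⁻¹ᵁ V).ι).obj (a.obj K).obj) :=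
    bc hsqU' hG (isQCohD_RD _ (a.obj K).property)
  have hF : Function.Bijective F := by
    refine (Function.Bijective.of_comp_iff _ hU₂).1 ?_
    have : ⇑F ∘ bcm R R' (DCoh.Lpull h') G ((RD (f ⁻¹ᵁ V).ι).obj (a.obj K).obj) =
        ⇑W ∘ bcm R R' (DCoh.Lpull h) _ _ ∘ eT.lTensor R' := funext key
    rw [this]
    exact hW.comp (hV₂.comp (eT.lTensor R').bijective)
  -- strip the comparisons
  have hq : DCoh.IsQCohD ((DCoh.Lpull h').obj G) := DQCoh.isQCohD_Lpull h' _ hGq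
  have hF' : ⇑F = tr adjV' ∘ (fun z => z ≫ θ') ∘ (fun x => x ≫ c) ∘ fun u => u ≫ sK := by
    funext u
    show (DCoh.Rpush (f' ∣_ V')).map u ≫ tr adjV' (sK ≫ c ≫ θ') = tr adjV' (((u ≫ sK) ≫ c) ≫ θ')
    rw [← tr_comp, Category.assoc, Category.assoc]
  rw [hF'] at hF
  have hsK : Function.Bijective fun u : (DCoh.Lpull h').obj G ⟶ _ => u ≫ sK :=
    (σ'.app (a.obj K).obj).homToEquiv.bijective
  have hθb : Function.Bijective fun z : (DCoh.Lpull h').obj G ⟶ _ => z ≫ θ' := (asIso θ').homToEquiv.bijective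
  exact (Function.Bijective.of_comp_iff _ hsK).1 ((Function.Bijective.of_comp_iff' hθb _).1
    ((Function.Bijective.of_comp_iff' (tr_bijective adjV' hq ((rdQ V'.ι).obj K')) _).1 hF))

end Groth.Agent.Dual3BCR
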