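import Groth.Agent.Dual3BCR.Main
import Groth.Agent.DCohShriek.Compact

/-!
**Flat base change for `f^!`.**
-/

set_option autoImplicit false
set_option backward.isDefEq.respectTransparency false
set_option backward.isDefEq.respectTransparency.types false
set_option linter.style.haveILetI false
set_option linter.unusedSectionVars false
set_option maxHeartbeats 1200000

universe u

open CategoryTheory Limits AlgebraicGeometry

attribute [local instance] HasDerivedCategory.standard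

namespace Groth.Agent.Dual3BCR

open Groth.Agent.DQCoh (RD)
open Groth.Agent.PerfGen Groth.Agent.DCohShriek

section Natural

variable {X Y X' Y' : Scheme.{u}} {f : X ⟶ Y} {g : Y' ⟶ Y} {f' : X' ⟶ Y'} {g' : X' ⟶ X}
variable [DCoh.HasRpush f] [DCoh.HasRpush f'] [DCoh.HasRpush g] [DCoh.HasRpush g']
variable {hf : DCoh.RpushPreservesQCoh f} {hf' : DCoh.RpushPreservesQCoh f'}
variable {hg : DCoh.RpushPreservesQCoh g} {hg' : DCoh.RpushPreservesQCoh g'}
variable [DCoh.HasLpull g] [DCoh.HasLpull g'] {hLg : Dual3.LpullPreservesQCoh g}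
  {hLg' : Dual3.LpullPreservesQCoh g'}
  {a : DCoh.DQCoh Y ⥤ DCoh.DQCoh X} {a' : DCoh.DQCoh Y' ⥤ DCoh.DQCoh X'}

/-- `ξ` is natural -/
lemma xi_naturality (adj : DCoh.RpushQ f hf ⊣ a) (adj' : DCoh.RpushQ f' hf' ⊣ a')
    (e : DCoh.RpushQ g' hg' ⋙ DCoh.RpushQ f hf ≅ DCoh.RpushQ f' hf' ⋙ DCoh.RpushQ g hg)
    {M N : DCoh.DQCoh Y'} (φ : M ⟶ N) :
    (DCoh.RpushQ g' hg').map (a'.map φ) ≫ Dual3.xi adj adj' e N =
      Dual3.xi adj adj' e M ≫ a.map ((DCoh.RpushQ g hg).map φ) := by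
  rw [Dual3.xi, Dual3.xi, ← Adjunction.homEquiv_naturality_left, ← Adjunction.homEquiv_naturality_right]
  refine congrArg _ ?_
  have hn := e.hom.naturality (a'.map φ)
  simp only [Functor.comp_map] at hn
  rw [reassoc_of% hn, Category.assoc, ← Functor.map_comp, ← Functor.map_comp]
  exact congrArg (fun ψ => e.hom.app _ ≫ (DCoh.RpushQ g hg).map ψ) (adj'.counit.naturality φ)

/-- the base change map of right adjoints is natural -/
lemma bcMap_naturality (adj : DCoh.RpushQ f hf ⊣ a) (adj' : DCoh.RpushQ f' hf' ⊣ a')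
    (e : DCoh.RpushQ g' hg' ⋙ DCoh.RpushQ f hf ≅ DCoh.RpushQ f' hf' ⋙ DCoh.RpushQ g hg)
    (adjg : Dual3.LpullQ g hLg ⊣ DCoh.RpushQ g hg) (adjg' : Dual3.LpullQ g' hLg' ⊣ DCoh.RpushQ g' hg')
    (hξ : ∀ M, IsIso (Dual3.xi adj adj' e M)) {K L : DCoh.DQCoh Y} (φ : K ⟶ L) :
    (Dual3.LpullQ g' hLg').map (a.map φ) ≫ Dual3.bcMap adj adj' e adjg adjg' L (hξ _) =
      Dual3.bcMap adj adj' e adjg adjg' K (hξ _) ≫ a'.map ((Dual3.LpullQ g hLg).map φ) := by
  haveI := hξ
  have h1 : a.map φ ≫ a.map (adjg.unit.app L) =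
      a.map (adjg.unit.app K) ≫ a.map ((DCoh.RpushQ g hg).map ((Dual3.LpullQ g hLg).map φ)) := by
    rw [← Functor.map_comp, ← Functor.map_comp]
    exact congrArg a.map (adjg.unit.naturality φ)
  have h2 : a.map ((DCoh.RpushQ g hg).map ((Dual3.LpullQ g hLg).map φ)) ≫
      inv (Dual3.xi adj adj' e ((Dual3.LpullQ g hLg).obj L)) =
      inv (Dual3.xi adj adj' e ((Dual3.LpullQ g hLg).obj K)) ≫
        (DCoh.RpushQ g' hg').map (a'.map ((Dual3.LpullQ g hLg).map φ)) := by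
    rw [IsIso.eq_inv_comp, ← reassoc_of% xi_naturality adj adj' e, IsIso.hom_inv_id, Category.comp_id]
  simp only [Dual3.bcMap, Category.assoc]
  rw [← Functor.map_comp_assoc (Dual3.LpullQ g' hLg'), h1, Functor.map_comp_assoc (Dual3.LpullQ g' hLg'),
    ← Functor.map_comp_assoc (Dual3.LpullQ g' hLg') (a.map ((DCoh.RpushQ g hg).map _)), h2,
    Functor.map_comp_assoc]
  exact congrArg (fun ψ => (Dual3.LpullQ g' hLg').map _ ≫ (Dual3.LpullQ g' hLg').map _ ≫ ψ)
    (adjg'.counit.naturality (a'.map ((Dual3.LpullQ g hLg).map φ)))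

end Natural

/-- **flat base change for the upper shriek of compactified morphisms** -/
theorem nonempty_shriek_bc {X Y X' Y' : Scheme.{u}} [IsNoetherian Y] [IsNoetherian Y'] [CompactSpace X']
    [QuasiSeparatedSpace X'] {f : X ⟶ Y} {g : Y' ⟶ Y} {f' : X' ⟶ Y'} {g' : X' ⟶ X}
    (hsq : IsPullback g' f' f g) [Flat g] (c : DEt.Compactification f) (c' : DEt.Compactification f')
    [DCoh.HasRpush c.fbar] [DCoh.HasRpush c'.fbar]
    {hc : DCoh.RpushPreservesQCoh c.fbar} {hc' : DCoh.RpushPreservesQCoh c'.fbar}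
    {a : DCoh.DQCoh Y ⥤ DCoh.DQCoh c.Xbar} {a' : DCoh.DQCoh Y' ⥤ DCoh.DQCoh c'.Xbar}
    (adj : DCoh.RpushQ c.fbar hc ⊣ a) (adj' : DCoh.RpushQ c'.fbar hc' ⊣ a')
    [DCoh.HasLpull g] [DCoh.HasLpull g'] (hLg : Dual3.LpullPreservesQCoh g) :
    Nonempty (Dual3.bddι Y ⋙ a ⋙ ObjectProperty.ι _ ⋙ RD c.j ⋙ DCoh.Lpull g' ≅
      Dual3.bddι Y ⋙ Dual3.LpullQ g hLg ⋙ a' ⋙ ObjectProperty.ι _ ⋙ RD c'.j) := by
  -- the pulled back compactification
  let fb := pullback.snd c.fbar g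
  let gb := pullback.fst c.fbar g
  have H : IsPullback gb fb c.fbar g := IsPullback.of_hasPullback c.fbar g
  let jb : X' ⟶ pullback c.fbar g := pullback.lift (g' ≫ c.j) f' (by rw [Category.assoc, c.fac, hsq.w])
  have hjb : jb ≫ gb = g' ≫ c.j := pullback.lift_fst _ _ _
  have hfb : jb ≫ fb = f' := pullback.lift_snd _ _ _
  have hsq' : IsPullback g' (jb ≫ fb) (c.j ≫ c.fbar) g := by rw [hfb, c.fac]; exact hsq
  have hJ : IsPullback g' jb c.j gb := hsq'.of_bot hjb.symm H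
  haveI : IsOpenImmersion jb := MorphismProperty.of_isPullback (P := @IsOpenImmersion) hJ c.isOpenImmersion
  let cb : DEt.Compactification f' :=
    { Xbar := pullback c.fbar g, j := jb, fbar := fb, isOpenImmersion := inferInstance,
      isProper := inferInstance, fac := hfb }
  haveI : CompactSpace c.Xbar := QuasiCompact.compactSpace_of_compactSpace c.fbar
  haveI : QuasiSeparatedSpace c.Xbar := quasiSeparatedSpace_of_quasiSeparated c.fbar
  haveI : CompactSpace (pullback c.fbar g : Scheme.{u}) := QuasiCompact.compactSpace_of_compactSpace fb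
  haveI : QuasiSeparatedSpace (pullback c.fbar g : Scheme.{u}) := quasiSeparatedSpace_of_quasiSeparated fb
  haveI : QuasiCompact g := quasiCompact_of_compactSpace _
  haveI : QuasiSeparated g := inferInstance
  haveI : QuasiCompact gb := quasiCompact_of_compactSpace _
  haveI : QuasiSeparated gb := MorphismProperty.of_isPullback (P := @QuasiSeparated) H.flip ‹_›
  haveI := DerPush.hasRpush_sch fb
  haveI := DerPush.hasRpush_sch g
  haveI := DerPush.hasRpush_sch gb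
  haveI := KFlat.hasLpull gb
  haveI : DCoh.HasRpush cb.fbar := DerPush.hasRpush_sch fb
  have hfbq : DCoh.RpushPreservesQCoh cb.fbar := fun K hK => DQPush.isQCohD_rpush fb hK
  have hgq : DCoh.RpushPreservesQCoh g := fun K hK => DQPush.isQCohD_rpush g hK
  have hgbq : DCoh.RpushPreservesQCoh gb := fun K hK => DQPush.isQCohD_rpush gb hK
  have hLgb : Dual3.LpullPreservesQCoh gb := fun K hK => DQCoh.isQCohD_Lpull gb K hK
  haveI := isLeftAdjoint_rpushQ cb.fbar hfbq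
  let adjb := Adjunction.ofIsLeftAdjoint (DCoh.RpushQ cb.fbar hfbq)
  obtain ⟨adj₀⟩ := DerPush.nonempty_lpull_adj_rpush g
  obtain ⟨adj₀'⟩ := DerPush.nonempty_lpull_adj_rpush gb
  let adjg := Dual3XI.adjQ hgq hLg adj₀
  let adjg' := Dual3XI.adjQ hgbq hLgb adj₀'
  obtain ⟨e, he⟩ := exists_bcData (f := c.fbar) (f' := cb.fbar) (hf := hc) (hf' := hfbq) H adjg adjg'
  have hξ := Dual3XI.isIso_xi adj adjb e adjg adjg' he
  -- the comparison on bounded below objects
  have hK : ∀ K : (Dual3.IsBddBelowQ Y).FullSubcategory,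
      IsIso (Dual3.bcMap adj adjb e adjg adjg' K.obj (hξ _)) := fun K => by
    obtain ⟨n, hn⟩ := K.property
    haveI : IsProper cb.fbar := cb.isProper
    exact isIso_bcMap H e adjg adjg' adj adjb (fin'_some c.fbar n) (fin'_some cb.fbar n) K.obj
      (bdd_of_isGE hn) (hξ _)
  let η : Dual3.bddι Y ⋙ a ⋙ Dual3.LpullQ gb hLgb ≅ Dual3.bddι Y ⋙ Dual3.LpullQ g hLg ⋙ _ :=
    NatIso.ofComponents (fun K => @asIso _ _ _ _ _ (hK K))
      fun φ => bcMap_naturality adj adjb e adjg adjg' hξ φ.hom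
  let lift : (Dual3.IsBddBelowQ Y).FullSubcategory ⥤ (Dual3.IsBddBelowQ Y').FullSubcategory :=
    ObjectProperty.lift _ (Dual3.bddι Y ⋙ Dual3.LpullQ g hLg) fun K => by
      obtain ⟨n, hn⟩ := K.property
      exact ⟨n, (DerivedCategory.isGE_iff _ _).2 fun i hi =>
        HomBC.bdd_Lpull_flat g (bdd_of_isGE hn) n rfl i hi⟩
  haveI := KFlat.hasLpull c.j
  haveI := KFlat.hasLpull jb
  obtain ⟨ej⟩ := Dual3Nu.nonempty_lpull_RD_nat c.j
  obtain ⟨eb⟩ := Dual3Nu.nonempty_lpull_RD_nat jb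
  obtain ⟨sq⟩ := FMTool.nonempty_lpull_square (f := g') (g := c.j) (f' := jb) (g' := gb) hjb.symm
  obtain ⟨ind⟩ := nonempty_shriek_iso cb c' adjb adj'
  let sq' : RD c.j ⋙ DCoh.Lpull g' ≅ DCoh.Lpull gb ⋙ RD jb :=
    (Functor.isoWhiskerRight ej _).symm ≪≫ sq ≪≫ Functor.isoWhiskerLeft _ eb
  exact ⟨Functor.isoWhiskerLeft (Dual3.bddι Y ⋙ a ⋙ ObjectProperty.ι _) sq' ≪≫
    Functor.isoWhiskerRight η (ObjectProperty.ι _ ⋙ RD jb) ≪≫
    Functor.isoWhiskerLeft lift ind⟩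

end Groth.Agent.Dual3BCR
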