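import Groth.Agent.Dual3BCR.Main
import Groth.Agent.DCohShriek.Coprod
import Groth.Agent.TorBC.Canon
import Groth.Agent.TorBC.TorLocal

/-!
Perfect direct images, coproducts and Tor independent base change.
-/

set_option autoImplicit false
set_option backward.isDefEq.respectTransparency false
set_option backward.isDefEq.respectTransparency.types false
set_option linter.style.haveILetI false
set_option linter.unusedSectionVars false
set_option maxHeartbeats 800000

universe u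

open CategoryTheory Limits Pretriangulated AlgebraicGeometry ZeroObject

attribute [local instance] HasDerivedCategory.standard

namespace Groth.Agent.Dual3BCR

open Groth.Agent.DQCoh (RD)
open Groth.Agent.PerfGen Groth.Agent.DCohShriek

variable {X Y X' Y' : Scheme.{u}}

/-- if the right adjoint commutes with coproducts then `Rf_*` preserves perfect objects -/
theorem isPerfect_rpush_of_preservesCoproducts [CompactSpace X] [QuasiSeparatedSpace X] [CompactSpace Y]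
    [QuasiSeparatedSpace Y] (f : X ⟶ Y) [DCoh.HasRpush f] {hf : DCoh.RpushPreservesQCoh f}
    {a : DCoh.DQCoh Y ⥤ DCoh.DQCoh X} (adj : DCoh.RpushQ f hf ⊣ a)
    (hsum : ∀ {ι : Type u} (K : ι → DCoh.DQCoh Y) [HasCoproduct K] [HasCoproduct fun i => a.obj (K i)],
      IsIso (Sigma.desc (fun i => a.map (Sigma.ι K i))))
    {P : DCoh.D X} (hP : DCoh.IsPerfect P) : DCoh.IsPerfect ((DCoh.Rpush f).obj P) := by
  classical
  have hq : DCoh.IsQCohD ((DCoh.Rpush f).obj P) := hf _ (isQCohD_of_isPerfect hP)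
  refine isPerfect_of_cpt (T := Set.univ) isClosed_univ (by rw [Set.compl_univ]; exact isCompact_empty)
    ⟨⟨hq, suppD_univ _⟩, fun {κ} Z _ hZ φ => ?_⟩
  haveI := additive_rpush f
  let K : κ → DCoh.DQCoh Y := fun k => ⟨Z k, (hZ k).1⟩
  haveI : HasColimitsOfShape (Discrete κ) (DCoh.DQCoh X) := hasCoproducts_qcohD X κ
  haveI : HasColimitsOfShape (Discrete κ) (DCoh.DQCoh Y) := hasCoproducts_qcohD Y κ
  haveI := preservesCoproducts_ι X κ
  haveI := preservesCoproducts_ι Y κ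
  haveI := PerfGen.hasCoproducts_D' X κ
  haveI := PerfGen.hasCoproducts_D' Y κ
  haveI := hsum K
  let ιX : DCoh.DQCoh X ⥤ DCoh.D X := ObjectProperty.ι _
  let ιY : DCoh.DQCoh Y ⥤ DCoh.D Y := ObjectProperty.ι _
  let eX := PreservesCoproduct.iso ιX fun j => a.obj (K j)
  let eY := PreservesCoproduct.iso ιY K
  have hιX : ∀ j, Sigma.ι (fun j => (a.obj (K j)).obj) j ≫ eX.inv = (Sigma.ι (fun j => a.obj (K j)) j).hom :=
    fun j => ι_comp_sigmaComparison ιX (fun j => a.obj (K j)) j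
  have hιY : ∀ j, Sigma.ι (fun j => (K j).obj) j ≫ eY.inv = (Sigma.ι K j).hom :=
    fun j => ι_comp_sigmaComparison ιY K j
  let σ := Sigma.desc fun j => a.map (Sigma.ι K j)
  haveI : IsIso σ.hom := inferInstanceAs (IsIso (ιX.map σ))
  obtain ⟨α, hα⟩ := (tr_bijective adj (isQCohD_of_isPerfect hP) (∐ K)).2 (φ ≫ eY.inv)
  obtain ⟨s, p, hp⟩ := finFac_perfect X hP (fun j => (a.obj (K j)).obj) (fun j => (a.obj (K j)).property)
    (α ≫ inv σ.hom ≫ eX.hom)
  refine ⟨s, fun j => tr adj (p j), (cancel_mono eY.inv).1 ?_⟩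
  have hα' : α = ∑ j ∈ s, p j ≫ (a.map (Sigma.ι K j)).hom := by
    have h1 : α = (α ≫ inv σ.hom ≫ eX.hom) ≫ eX.inv ≫ σ.hom := by
      simp only [Category.assoc, Iso.hom_inv_id_assoc, IsIso.inv_hom_id]
      exact (Category.comp_id α).symm
    rw [h1, hp, Preadditive.sum_comp]
    refine Finset.sum_congr rfl fun j _ => ?_
    rw [Category.assoc, reassoc_of% hιX]
    exact congrArg (fun ψ => p j ≫ InducedCategory.Hom.hom ψ) (Sigma.ι_desc (fun j => a.map (Sigma.ι K j)) j)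
  refine hα.symm.trans ?_
  rw [hα', Preadditive.sum_comp]
  simp only [tr, Functor.map_sum, Preadditive.sum_comp]
  refine Finset.sum_congr rfl fun j _ => ?_
  rw [Category.assoc]
  erw [hιY j]
  exact tr_map adj (Sigma.ι K j) (p j)

variable {f : X ⟶ Y} {g : Y' ⟶ Y} {f' : X' ⟶ Y'} {g' : X' ⟶ X}

/-- `Rf'_*` preserves perfect objects as soon as it does on inverse images of perfect objects -/
theorem fin'_none_of_lpull [CompactSpace X] [QuasiSeparatedSpace X] [CompactSpace X'] [QuasiSeparatedSpace X']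
    [QuasiCompact f] [QuasiSeparated f] [DCoh.HasRpush f'] [DCoh.HasLpull g']
    (hsq : IsPullback g' f' f g)
    (h : ∀ P : DCoh.D X, DCoh.IsPerfect P → DCoh.IsPerfect ((DCoh.Rpush f').obj ((DCoh.Lpull g').obj P))) :
    Fin' none f' := by
  haveI : QuasiCompact f' := MorphismProperty.of_isPullback (P := @QuasiCompact) hsq ‹_›
  haveI : QuasiSeparated f' := MorphismProperty.of_isPullback (P := @QuasiSeparated) hsq ‹_›
  intro P hP
  refine Or.inl ?_
  rw [DQCoh.perfect_iff_near]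
  intro y
  obtain ⟨V, hV, hyV, -⟩ := exists_isAffineOpen_mem_and_subset (X := Y) (x := g.base y) (U := ⊤) trivial
  obtain ⟨V', hV', hyV', hle⟩ := exists_isAffineOpen_mem_and_subset (X := Y') (x := y) (U := g ⁻¹ᵁ V) hyV
  have he : V' ≤ g ⁻¹ᵁ V := hle
  haveI : IsAffine (V : Scheme.{u}) := hV
  haveI : IsAffine (V' : Scheme.{u}) := hV'
  have hUc : IsCompact ((f ⁻¹ᵁ V : X.Opens) : Set X) := f.isCompact_preimage hV.isCompact
  haveI : CompactSpace (f ⁻¹ᵁ V) := isCompact_iff_compactSpace.1 hUc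
  haveI : QuasiCompact (f ⁻¹ᵁ V).ι := quasiCompact_of_compactSpace _
  haveI : QuasiSeparatedSpace (f ⁻¹ᵁ V) := quasiSeparatedSpace_of_quasiSeparated (f ⁻¹ᵁ V).ι
  haveI : CompactSpace (f' ⁻¹ᵁ V') := isCompact_iff_compactSpace.1 (f'.isCompact_preimage hV'.isCompact)
  haveI : QuasiSeparatedSpace (f' ⁻¹ᵁ V') := quasiSeparatedSpace_of_quasiSeparated (f' ⁻¹ᵁ V').ι
  haveI := DerPush.hasRpush_sch (f' ∣_ V')
  haveI := additive_rpush (f' ∣_ V')
  let h₁ := g'.resLE (f ⁻¹ᵁ V) (f' ⁻¹ᵁ V') (le_square hsq he)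
  haveI : IsAffineHom (g.resLE V V' he) := inferInstance
  haveI : IsAffineHom h₁ :=
    MorphismProperty.of_isPullback (P := @IsAffineHom) (isPullback_resLE hsq he).flip inferInstance
  haveI := KFlat.hasLpull h₁
  haveI := DerPush.hasRpush_sch h₁
  obtain ⟨σ⟩ := nonempty_sq g' (f ⁻¹ᵁ V) (f' ⁻¹ᵁ V') (le_square hsq he)
  obtain ⟨G, -, hgen, hGp⟩ := exists_gen_qcohD (f ⁻¹ᵁ V : Scheme.{u})
  obtain ⟨P₀, hP₀, ⟨r⟩⟩ := retT_of_perfect (hasGen X) (f ⁻¹ᵁ V).ι isClosed_univ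
    (by rw [Set.compl_univ]; exact isCompact_empty) (F := G) ⟨hGp, suppD_univ _⟩
  let Q : ObjectProperty (DCoh.D (f' ⁻¹ᵁ V' : Scheme.{u})) :=
    fun E => DCoh.IsPerfect ((DCoh.Rpush (f' ∣_ V')).obj E)
  have hG₀ : Q ((DCoh.Lpull h₁).obj G) :=
    PerfPush.isPerfect_of_retract (((r.map (DCoh.Lpull h₁)).trans (Retract.ofIso (σ.app P₀))).map
      (DCoh.Rpush (f' ∣_ V')) |>.trans (Retract.ofIso ((DQPush.rpushRestrIso f' V').app _).symm))
      (isPerfect_RD V'.ι (h P₀ hP₀.1))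
  haveI : Q.IsClosedUnderIsomorphisms := ⟨fun i hA => DQCoh.perfect_of_iso ((DCoh.Rpush _).mapIso i) hA⟩
  haveI : Q.ContainsZero := ⟨⟨0, isZero_zero _, PerfPush.isPerfect_of_retract
    (⟨0, 0, ((DCoh.Rpush _).map_isZero (isZero_zero _)).eq_of_src _ _⟩ : Retract _ _) hG₀⟩⟩
  haveI : Q.IsStableUnderShift ℤ := ⟨fun n => ⟨fun E hE => DQCoh.perfect_of_iso
    ((DCohShriek.rpushShiftIso (f' ∣_ V') n).app E).symm (DQCoh.perfect_shift hE n)⟩⟩
  haveI : Q.IsTriangulatedClosed₂ := ObjectProperty.IsTriangulatedClosed₂.mk' fun T hT h₁ h₃ => by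
    obtain ⟨c, hc⟩ := Dual3Nu.triP_rpush (f' ∣_ V') _ hT
    exact DQCoh.perfect_obj₂ _ hc h₁ h₃
  haveI : Q.IsTriangulated := {}
  haveI : Q.IsStableUnderRetracts := ⟨fun r hB => PerfPush.isPerfect_of_retract (r.map (DCoh.Rpush _)) hB⟩
  have hall : Q ((RD (f' ⁻¹ᵁ V').ι).obj P) :=
    ((ObjectProperty.triangEnvelope_le_iff (Q := Q) (P := PerfGen.only ((DCoh.Lpull h₁).obj G))).2
      (fun E hE => by cases hE; exact hG₀)) _
      (PerfGen.envelope_of_gen (PerfGen.localizing_qcohD _)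
        (PerfGen.cpt_of_perfect (DerPerf.isPerfect_Lpull h₁ G hGp)) (PerfPush.gen_lpull h₁ hgen hGp)
        (PerfGen.cpt_of_perfect (isPerfect_RD _ hP)))
  obtain ⟨O, o, ho, w, hw, hPO⟩ := (DQCoh.perfect_iff_near _).1
    (DQCoh.perfect_of_iso ((DQPush.rpushRestrIso f' V').app P).symm hall) ⟨y, hyV'⟩
  haveI := ho
  exact ⟨O, o ≫ V'.ι, inferInstance, w, by rw [Scheme.Hom.comp_apply, hw]; rfl, DQCoh.perfOn_push o V'.ι hPO⟩

/-- Tor independent base change preserves perfectness of direct images -/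
theorem fin'_none_tor [CompactSpace X] [QuasiSeparatedSpace X] [QuasiSeparatedSpace Y] [CompactSpace X']
    [QuasiSeparatedSpace X'] [DCoh.HasRpush f] [DCoh.HasRpush f'] (hsq : IsPullback g' f' f g)
    (htor : ∀ (U : Y.Opens), IsAffineOpen U → ∀ (U' : Y'.Opens), IsAffineOpen U' →
      ∀ (hU' : U' ≤ g ⁻¹ᵁ U) (V : X.Opens), IsAffineOpen V → ∀ (hV : V ≤ f ⁻¹ᵁ U) (i : ℕ), 0 < i →
      Subsingleton (@DRing.Tor Γ(Y, U) _ i Γ(Y', U') Γ(X, V) _ (g.appLE U U' hU').hom.toModule _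
        (f.appLE U V hV).hom.toModule))
    (hfin : Fin' none f) : Fin' none f' := by
  haveI : QuasiCompact f := quasiCompact_of_compactSpace _
  haveI : QuasiSeparated f := inferInstance
  haveI := KFlat.hasLpull g
  haveI := KFlat.hasLpull g'
  haveI := DerPush.hasRpush_sch g
  haveI := DerPush.hasRpush_sch g'
  obtain ⟨adj₀⟩ := DerPush.nonempty_lpull_adj_rpush g
  obtain ⟨adj₀'⟩ := DerPush.nonempty_lpull_adj_rpush g'
  obtain ⟨e, he⟩ := TorBC.exists_isIso_baseChangeApp_of_local hsq adj₀ adj₀' DCoh.IsQCohD (fun _ h => h)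
    fun _ _ _ hL hLq _ _ l _ _ _ π _ _ _ _ _ jV jX jW jY _ _ _ _ _ _ _ _ _ _ _ _ HW wf wg' wg _ =>
      TorBC.exists_local_tor htor hL hLq l π jV jX jW jY HW wf wg' wg
  refine fin'_none_of_lpull hsq fun P hP => ?_
  haveI := he P (isQCohD_of_isPerfect hP)
  rcases hfin P hP with h | ⟨ho, -⟩
  · exact DQCoh.perfect_of_iso (asIso (DCoh.baseChangeApp adj₀ adj₀' e P)) (DerPerf.isPerfect_Lpull g _ h)
  · exact absurd ho (by simp)

end Groth.Agent.Dual3BCR
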